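import Mathlib
import Cfsg.Agent.Lib.Helper14.PG63.Defs

/-!
# Project PG63 (S3664), package [PI]

`Pred` is closed under inverses.  The core is the multiplicativity of `star4` on matrices
preserving the antidiagonal form in characteristic 2 (Cauchy–Binet; the two missing pairs
`(0,3)`, `(1,2)` cancel).
-/

set_option autoImplicit false

namespace Cfsg.Agent.Lib.Helper62.PG63

open Matrix Cfsg.Agent.Lib.Helper14.PG63

universe u

section

variable {F : Type u} [Field F]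

/-- the polynomial identity behind Cauchy–Binet for the four pairs of `pairOf`. -/
theorem pi_cb (A B : Matrix (Fin 4) (Fin 4) F) (h2 : (2 : F) = 0) (k l i j : Fin 4)
    (hA : A k 0 * A l 3 + A k 1 * A l 2 + A k 2 * A l 1 + A k 3 * A l 0 = 0)
    (hB : B 0 i * B 3 j + B 1 i * B 2 j + B 2 i * B 1 j + B 3 i * B 0 j = 0) :
    (A * B) k i * (A * B) l j - (A * B) l i * (A * B) k j =
      (A k 0 * A l 1 - A l 0 * A k 1) * (B 0 i * B 1 j - B 1 i * B 0 j) +
      (A k 0 * A l 2 - A l 0 * A k 2) * (B 0 i * B 2 j - B 2 i * B 0 j) +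
      (A k 1 * A l 3 - A l 1 * A k 3) * (B 1 i * B 3 j - B 3 i * B 1 j) +
      (A k 2 * A l 3 - A l 2 * A k 3) * (B 2 i * B 3 j - B 3 i * B 2 j) := by
  simp only [Matrix.mul_apply, Fin.sum_univ_four]
  linear_combination (A k 0 * A l 3 - A l 0 * A k 3) * hB +
    (B 1 i * B 2 j - B 2 i * B 1 j) * hA -
    ((A k 0 * A l 3 - A l 0 * A k 3) * (B 3 i * B 0 j + B 2 i * B 1 j) +
      (B 1 i * B 2 j - B 2 i * B 1 j) * (A l 0 * A k 3 + A l 1 * A k 2) +
      (B 1 i * B 2 j - B 2 i * B 1 j) * (A k 0 * A l 3 - A l 0 * A k 3)) * h2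

theorem pi_J4_sq : J4 F * J4 F = 1 := by
  ext i j
  fin_cases i <;> fin_cases j <;> simp [J4, Matrix.mul_apply, Fin.sum_univ_four]

/-- a matrix preserving the form also satisfies `A J Aᵀ = J`. -/
theorem pi_form_swap (A : Matrix (Fin 4) (Fin 4) F) (hA : Aᵀ * J4 F * A = J4 F) :
    A * J4 F * Aᵀ = J4 F := by
  have h1 : (J4 F * Aᵀ * J4 F) * A = 1 := by
    rw [Matrix.mul_assoc, Matrix.mul_assoc, ← Matrix.mul_assoc Aᵀ, hA, pi_J4_sq]
  have h2 : A * (J4 F * Aᵀ * J4 F) = 1 := mul_eq_one_comm.mp h1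
  calc A * J4 F * Aᵀ = A * (J4 F * Aᵀ * J4 F) * J4 F := by
        simp only [Matrix.mul_assoc]
        rw [pi_J4_sq, Matrix.mul_one]
    _ = J4 F := by rw [h2, Matrix.one_mul]

theorem pi_rowRel (A : Matrix (Fin 4) (Fin 4) F) (hAJ : A * J4 F * Aᵀ = J4 F) (p : Fin 4) :
    A (Cfsg.Lie.pairOf p).1 0 * A (Cfsg.Lie.pairOf p).2 3 +
      A (Cfsg.Lie.pairOf p).1 1 * A (Cfsg.Lie.pairOf p).2 2 +
      A (Cfsg.Lie.pairOf p).1 2 * A (Cfsg.Lie.pairOf p).2 1 +
      A (Cfsg.Lie.pairOf p).1 3 * A (Cfsg.Lie.pairOf p).2 0 = 0 := by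
  have h : ∀ k l : Fin 4, A k 0 * A l 3 + A k 1 * A l 2 + A k 2 * A l 1 + A k 3 * A l 0 =
      J4 F k l := by
    intro k l
    rw [← hAJ]
    simp only [Matrix.mul_apply, Matrix.transpose_apply, Fin.sum_univ_four]
    simp [J4]
    try ring
  rw [h]
  fin_cases p <;> simp [J4, Cfsg.Lie.pairOf]

theorem pi_colRel (B : Matrix (Fin 4) (Fin 4) F) (hB : Bᵀ * J4 F * B = J4 F) (r : Fin 4) :
    B 0 (Cfsg.Lie.pairOf r).1 * B 3 (Cfsg.Lie.pairOf r).2 +
      B 1 (Cfsg.Lie.pairOf r).1 * B 2 (Cfsg.Lie.pairOf r).2 +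
      B 2 (Cfsg.Lie.pairOf r).1 * B 1 (Cfsg.Lie.pairOf r).2 +
      B 3 (Cfsg.Lie.pairOf r).1 * B 0 (Cfsg.Lie.pairOf r).2 = 0 := by
  have h : ∀ i j : Fin 4, B 0 i * B 3 j + B 1 i * B 2 j + B 2 i * B 1 j + B 3 i * B 0 j =
      J4 F i j := by
    intro i j
    rw [← hB]
    simp only [Matrix.mul_apply, Matrix.transpose_apply, Fin.sum_univ_four]
    simp [J4]
    try ring
  rw [h]
  fin_cases r <;> simp [J4, Cfsg.Lie.pairOf]

/-- `star4` is multiplicative on matrices preserving the form (characteristic 2). -/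
theorem pi_star4_mul (A B : Matrix (Fin 4) (Fin 4) F) (h2 : (2 : F) = 0)
    (hA : Aᵀ * J4 F * A = J4 F) (hB : Bᵀ * J4 F * B = J4 F) :
    Cfsg.Lie.star4 (A * B) = Cfsg.Lie.star4 A * Cfsg.Lie.star4 B := by
  have hAJ := pi_form_swap A hA
  ext p r
  have e1 : Cfsg.Lie.star4 (A * B) p r =
      (A * B) (Cfsg.Lie.pairOf p).1 (Cfsg.Lie.pairOf r).1 *
        (A * B) (Cfsg.Lie.pairOf p).2 (Cfsg.Lie.pairOf r).2 -
      (A * B) (Cfsg.Lie.pairOf p).2 (Cfsg.Lie.pairOf r).1 *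
        (A * B) (Cfsg.Lie.pairOf p).1 (Cfsg.Lie.pairOf r).2 := rfl
  rw [e1, pi_cb A B h2 _ _ _ _ (pi_rowRel A hAJ p) (pi_colRel B hB r), Matrix.mul_apply,
    Fin.sum_univ_four]
  simp [Cfsg.Lie.star4, Cfsg.Lie.pairOf]

theorem pi_star4_one : Cfsg.Lie.star4 (1 : Matrix (Fin 4) (Fin 4) F) = 1 := by
  ext p r
  have h0 : Cfsg.Lie.pairOf 0 = (0, 1) := rfl
  have h1 : Cfsg.Lie.pairOf 1 = (0, 2) := rfl
  have h2 : Cfsg.Lie.pairOf 2 = (1, 3) := rfl
  have h3 : Cfsg.Lie.pairOf 3 = (2, 3) := rfl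
  fin_cases p <;> fin_cases r <;>
    simp [Cfsg.Lie.star4, h0, h1, h2, h3, Matrix.one_apply]

end

/-- **[PI]** (the hypothesis `PM` is not needed). -/
theorem pkgPI : Cfsg.Agent.Lib.Helper14.PG63.PkgPI.{u} := by
  intro _hPM F _ _ M M' hM hMM'
  have h2 : (2 : F) = 0 := CharTwo.two_eq_zero
  have hM'M : M' * M = 1 := mul_eq_one_comm.mp hMM'
  have hform : M'ᵀ * J4 F * M' = J4 F := by
    calc M'ᵀ * J4 F * M' = M'ᵀ * (Mᵀ * J4 F * M) * M' := by rw [hM.1]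
      _ = (M * M')ᵀ * J4 F * (M * M') := by
          rw [Matrix.transpose_mul]
          simp only [Matrix.mul_assoc]
      _ = J4 F := by rw [hMM']; simp
  have hs := pi_star4_mul M' M h2 hform hM.1
  rw [hM'M, hM.2, pi_star4_one] at hs
  have e : ∀ A : Matrix (Fin 4) (Fin 4) F,
      A.map (fun x => x ^ 4) = (A.map (frobenius F 2)).map (frobenius F 2) := by
    intro A
    ext i j
    simp only [Matrix.map_apply, frobenius_def]
    ring
  have hmap : M.map (fun x => x ^ 4) * M'.map (fun x => x ^ 4) = 1 := by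
    rw [e, e, ← Matrix.map_mul, ← Matrix.map_mul, hMM', Matrix.map_one _ (map_zero _) (map_one _),
      Matrix.map_one _ (map_zero _) (map_one _)]
  refine ⟨hform, ?_⟩
  calc Cfsg.Lie.star4 M' = Cfsg.Lie.star4 M' * (M.map (fun x => x ^ 4) * M'.map (fun x => x ^ 4)) := by
        rw [hmap, Matrix.mul_one]
    _ = (Cfsg.Lie.star4 M' * M.map (fun x => x ^ 4)) * M'.map (fun x => x ^ 4) := by
        rw [Matrix.mul_assoc]
    _ = M'.map (fun x => x ^ 4) := by rw [← hs, Matrix.one_mul]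

end Cfsg.Agent.Lib.Helper62.PG63

namespace Cfsg.Agent.Lib.Helper62.PG63

open Matrix Cfsg.Agent.Lib.Helper14.PG63

universe v

/-- **[PM]** `Pred` is closed under products. -/
theorem pkgPM : Cfsg.Agent.Lib.Helper14.PG63.PkgPM.{v} := by
  intro F _ _ M M' hM hM'
  have h2 : (2 : F) = 0 := CharTwo.two_eq_zero
  have e : ∀ A : Matrix (Fin 4) (Fin 4) F,
      A.map (fun x => x ^ 4) = (A.map (frobenius F 2)).map (frobenius F 2) := by
    intro A
    ext i j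
    simp only [Matrix.map_apply, frobenius_def]
    ring
  refine ⟨?_, ?_⟩
  · calc (M * M')ᵀ * J4 F * (M * M') = M'ᵀ * (Mᵀ * J4 F * M) * M' := by
          rw [Matrix.transpose_mul]
          simp only [Matrix.mul_assoc]
      _ = J4 F := by rw [hM.1, hM'.1]
  · rw [pi_star4_mul M M' h2 hM.1 hM'.1, hM.2, hM'.2, e, e, e, Matrix.map_mul, Matrix.map_mul]

end Cfsg.Agent.Lib.Helper62.PG63
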